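import Groth.Agent.Fit14.Local
import Mathlib.RingTheory.Grassmannian
import Mathlib.RingTheory.Spectrum.Prime.FreeLocus
import Mathlib.RingTheory.LocalRing.Module

/-! Fitting ideals and the Grassmannian. -/

set_option autoImplicit false
universe u v w

open TensorProduct

namespace Groth.Agent.Small96

theorem fitting_eq_bot_of_rank (A : Type u) [CommRing A] (P : Type v) [AddCommGroup P] [Module A P]
    [Module.Finite A P] [Module.Projective A P] (k j : ℕ) (hj : j < k)
    (hP : ∀ p, Module.rankAtStalk (R := A) P p = k) : Fitt.ideal A P j = ⊥ := by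
  rw [eq_bot_iff]
  intro a ha
  rw [Ideal.mem_bot]
  by_contra hne
  obtain ⟨m, hm, hle⟩ := Ideal.exists_le_maximal (Ideal.torsionOf A A a) fun ht =>
    hne ((Ideal.torsionOf_eq_top_iff (R := A) a).1 ht)
  have := hm.isPrime
  have hfree : Module.Free (Localization.AtPrime m) (LocalizedModule m.primeCompl P) :=
    Module.free_of_flat_of_isLocalRing
  have h0 := Ideal.mem_map_of_mem (algebraMap A (Localization.AtPrime m)) ha
  rw [← Fit14.ideal_localizedModule, Fit14.ideal_of_free,
    show Module.finrank (Localization.AtPrime m) (LocalizedModule m.primeCompl P) = k from hP ⟨m, hm.isPrime⟩,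
    if_neg (by omega), Ideal.mem_bot, IsLocalization.map_eq_zero_iff m.primeCompl] at h0
  obtain ⟨c, hc⟩ := h0
  exact c.2 (hle ((Ideal.mem_torsionOf_iff a _).2 (by rw [smul_eq_mul, hc])))

theorem fitting_map_eq_bot (R : Type u) [CommRing R] (M : Type v) [AddCommGroup M] [Module R M]
    [Module.Finite R M] (k : ℕ) (A : Type u) [CommRing A] [Algebra R A]
    (N : Module.Grassmannian A (A ⊗[R] M) k) (j : ℕ) (hj : j < k) :
    (Fitt.ideal R M j).map (algebraMap R A) = ⊥ := by
  rw [eq_bot_iff, ← Fit14.ideal_baseChange A j]
  refine (Fit14.ideal_le_of_surjective N.toSubmodule.mkQ (Submodule.mkQ_surjective _) j).trans ?_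
  exact (fitting_eq_bot_of_rank A _ k j hj N.rankAtStalk_eq).le

theorem grass_top (A : Type u) [CommRing A] (P : Type v) [AddCommGroup P] [Module A P]
    [Module.Finite A P] [Module.Projective A P] (k : ℕ)
    (hk : ∀ p : PrimeSpectrum A, Module.rankAtStalk (R := A) P p = k) :
    (∃ N : Module.Grassmannian A P k, N.toSubmodule = ⊥) ∧
      ∀ N : Module.Grassmannian A P k, N.toSubmodule = ⊥ := by
  let e := (Submodule.quotEquivOfEqBot (⊥ : Submodule A P) rfl)
  refine ⟨⟨⟨⊥, Module.Finite.equiv e.symm, Module.Projective.of_equiv e.symm, fun p => ?_⟩, rfl⟩, fun N => ?_⟩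
  · rw [Module.rankAtStalk_eq_of_equiv e]; exact hk p
  · obtain ⟨s, hs⟩ := Module.projective_lifting_property N.toSubmodule.mkQ LinearMap.id
      (Submodule.mkQ_surjective _)
    let π : P →ₗ[A] N.toSubmodule :=
      (LinearMap.id - s.comp N.toSubmodule.mkQ).codRestrict _ fun x => by
        rw [← Submodule.Quotient.mk_eq_zero]
        have := congr($hs (N.toSubmodule.mkQ x))
        simp only [LinearMap.comp_apply, LinearMap.id_apply, Submodule.mkQ_apply] at this
        simp [this]
    have hπ : π.comp N.toSubmodule.subtype = LinearMap.id :=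
      LinearMap.ext fun x => Subtype.ext (by
        simp [π, (Submodule.Quotient.mk_eq_zero N.toSubmodule).2 x.2])
    have : Module.Finite A N.toSubmodule :=
      Module.Finite.of_surjective π fun x => ⟨x, congr($hπ x)⟩
    have : Module.Projective A N.toSubmodule := Module.Projective.of_split _ π hπ
    let f : P ≃ₗ[A] N.toSubmodule × (P ⧸ N.toSubmodule) :=
      { π.prod N.toSubmodule.mkQ with
        invFun := fun y => y.1.1 + s y.2
        left_inv := fun x => by simp [π]
        right_inv := fun y => by
          have h1 := congr($hπ y.1)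
          have h2 := congr($hs y.2)
          have h3 : N.toSubmodule.mkQ (y.1.1 + s y.2) = y.2 := by
            rw [map_add, Submodule.mkQ_apply, (Submodule.Quotient.mk_eq_zero _).2 y.1.2, zero_add]
            exact h2
          refine Prod.ext (Subtype.ext ?_) h3
          show (y.1.1 + s y.2) - s (N.toSubmodule.mkQ (y.1.1 + s y.2)) = y.1.1
          rw [h3]; abel }
    have h0 : Module.rankAtStalk (R := A) N.toSubmodule = 0 := funext fun p => by
      have := congrFun ((Module.rankAtStalk_eq_of_equiv f).trans (Module.rankAtStalk_prod _ _)) p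
      rw [Pi.add_apply, hk p, N.rankAtStalk_eq p] at this
      simp only [Pi.zero_apply]; omega
    have := Module.rankAtStalk_eq_zero_iff_subsingleton.1 h0
    exact Submodule.subsingleton_iff_eq_bot.1 this

end Groth.Agent.Small96
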