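import Mathlib

/-! Discrete antiderivatives of polynomials. -/

open Polynomial

namespace Groth.Agent.Small96

/-- `P(X) - P(X-1)` -/
noncomputable def bdiff (P : ℚ[X]) : ℚ[X] := P - P.comp (X + C (-1 : ℚ))

theorem coeff_comp_shift (P : ℚ[X]) (n k : ℕ) (hP : P.natDegree < n) :
    (P.comp (X + C (-1 : ℚ))).coeff k
      = ∑ i ∈ Finset.range n, P.coeff i * ((-1 : ℚ) ^ (i - k) * (i.choose k : ℚ)) := by
  conv_lhs => rw [P.as_sum_range' n hP]
  rw [sum_comp, finsetSum_coeff]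
  refine Finset.sum_congr rfl fun i _ => ?_
  rw [monomial_comp, coeff_C_mul, coeff_X_add_C_pow]

theorem bdiff_coeff_of_le (P : ℚ[X]) (n k : ℕ) (hP : P.natDegree ≤ n + 1) (hk : n + 1 ≤ k) :
    (bdiff P).coeff k = 0 := by
  rw [bdiff, coeff_sub, coeff_comp_shift P (n + 2) k (by omega), Finset.sum_range_succ,
    Finset.sum_eq_zero fun i hi => by rw [Nat.choose_eq_zero_of_lt (by simp at hi; omega)]; simp]
  rcases hk.eq_or_lt with h | h
  · subst h; simp
  · rw [Nat.choose_eq_zero_of_lt h, coeff_eq_zero_of_natDegree_lt (p := P) (n := k) (by omega)]; simp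

theorem bdiff_coeff_top (P : ℚ[X]) (n : ℕ) (hP : P.natDegree ≤ n + 1) :
    (bdiff P).coeff n = ((n : ℚ) + 1) * P.coeff (n + 1) := by
  rw [bdiff, coeff_sub, coeff_comp_shift P (n + 2) n (by omega), Finset.sum_range_succ,
    Finset.sum_range_succ,
    Finset.sum_eq_zero fun i hi => by rw [Nat.choose_eq_zero_of_lt (Finset.mem_range.1 hi)]; simp]
  simp
  ring

theorem natDegree_bdiff_le (P : ℚ[X]) (n : ℕ) (hP : P.natDegree ≤ n + 1) :
    (bdiff P).natDegree ≤ n :=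
  natDegree_le_iff_coeff_eq_zero.2 fun k hk => bdiff_coeff_of_le P n k hP hk

theorem exists_bdiff : ∀ (d : ℕ) (Q : ℚ[X]), Q.natDegree ≤ d →
    ∃ P : ℚ[X], P.natDegree ≤ d + 1 ∧ bdiff P = Q := by
  intro d
  induction d with
  | zero =>
    intro Q hQ
    refine ⟨C (Q.coeff 0) * X, natDegree_C_mul_le _ _ |>.trans natDegree_X_le, ?_⟩
    conv_rhs => rw [eq_C_of_natDegree_le_zero hQ]
    simp [bdiff]; ring
  | succ d ih =>
    intro Q hQ
    set P₀ : ℚ[X] := C (Q.coeff (d + 1) / ((d : ℚ) + 2)) * X ^ (d + 2) with hP₀def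
    have hP₀ : P₀.natDegree ≤ d + 1 + 1 := natDegree_C_mul_X_pow_le _ _
    have htop : (bdiff P₀).coeff (d + 1) = Q.coeff (d + 1) := by
      rw [bdiff_coeff_top P₀ (d + 1) hP₀, hP₀def, coeff_C_mul, coeff_X_pow]
      simp
      field_simp
      ring
    obtain ⟨P₁, hP₁, e⟩ := ih (Q - bdiff P₀) (natDegree_le_iff_coeff_eq_zero.2 fun k hk => by
      rw [coeff_sub]
      rcases (Nat.succ_le_of_lt hk).eq_or_lt with h | h
      · subst h; rw [htop, sub_self]
      · rw [bdiff_coeff_of_le P₀ (d + 1) k hP₀ h,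
          coeff_eq_zero_of_natDegree_lt (lt_of_le_of_lt hQ h), sub_zero])
    refine ⟨P₀ + P₁, (natDegree_add_le _ _).trans (max_le hP₀ (by omega)), ?_⟩
    rw [show bdiff (P₀ + P₁) = bdiff P₀ + bdiff P₁ by simp [bdiff]; ring, e]
    ring

theorem exists_antideriv (φ : ℤ → ℚ) (d : ℕ) (Q : ℚ[X]) (hQ : Q ≠ 0) (hd : Q.natDegree = d)
    (h : ∀ m : ℤ, φ m - φ (m - 1) = Q.eval (m : ℚ)) :
    ∃ P : ℚ[X], P.natDegree = d + 1 ∧ ∀ m : ℤ, φ m = P.eval (m : ℚ) := by
  obtain ⟨P, hP, e⟩ := exists_bdiff d Q hd.le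
  have hdeg : P.natDegree = d + 1 := by
    refine le_antisymm hP (le_natDegree_of_ne_zero fun h0 => ?_)
    have := bdiff_coeff_top P d hP
    rw [e, h0, mul_zero] at this
    exact (leadingCoeff_ne_zero.2 hQ) (by rw [leadingCoeff, hd, this])
  have step : ∀ m : ℤ, φ m - P.eval (m : ℚ) = φ (m - 1) - P.eval (((m - 1 : ℤ)) : ℚ) := fun m => by
    have h2 : P.eval (m : ℚ) - P.eval ((m : ℚ) - 1) = Q.eval (m : ℚ) := by
      rw [← e]; simp [bdiff, sub_eq_add_neg]
    have h1 := h m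
    push_cast
    linarith
  have const : ∀ m : ℤ, φ m - P.eval (m : ℚ) = φ 0 - P.eval 0 := fun m => by
    induction m using Int.induction_on with
    | zero => simp
    | succ i ih => rw [step, ← ih]; simp
    | pred i ih => rw [← ih, step (-(i : ℤ))]
  exact ⟨P + C (φ 0 - P.eval 0), by rw [natDegree_add_C, hdeg], fun m => by
    rw [eval_add, eval_C, ← const m]; ring⟩

end Groth.Agent.Small96
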