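import Groth.Prelude.Def_W4c2conddiscmodels
import Mathlib

/-! Hirzebruch–Jung continued fractions. -/

open Finset

namespace Groth.Agent.Small96

/-- numerator and denominator of a continued fraction -/
def cont : List ℤ → ℤ × ℤ
  | [] => (1, 0)
  | b :: t => (b * (cont t).1 - (cont t).2, (cont t).1)

theorem cont_bounds : ∀ L : List ℤ, (∀ x ∈ L, 2 ≤ x) → 0 ≤ (cont L).2 ∧ (cont L).2 < (cont L).1
  | [], _ => by simp [cont]
  | b :: t, h => by
    obtain ⟨h1, h2⟩ := cont_bounds t fun x hx => h x (List.mem_cons_of_mem _ hx)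
    have hb := h b (List.mem_cons_self ..)
    simp only [cont]
    constructor
    · omega
    · nlinarith

theorem cont_coprime : ∀ L : List ℤ, IsCoprime (cont L).1 (cont L).2
  | [] => by simp [cont, isCoprime_one_left]
  | b :: t => by
    simp only [cont]
    obtain ⟨u, v, h⟩ := cont_coprime t
    exact ⟨-v, u + v * b, by linear_combination h⟩

theorem hjVal_eq : ∀ L : List ℤ, (∀ x ∈ L, 2 ≤ x) → L ≠ [] →
    HJFrac.hjVal L = ((cont L).1 : ℚ) / (cont L).2
  | [], _, h => absurd rfl h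
  | b :: t, h, _ => by
    by_cases ht : t = []
    · subst ht; simp [HJFrac.hjVal, cont]
    · obtain ⟨h1, h2⟩ := cont_bounds t fun x hx => h x (List.mem_cons_of_mem _ hx)
      have : ((cont t).1 : ℚ) ≠ 0 := by
        have : (cont t).1 ≠ 0 := by omega
        exact_mod_cast this
      simp only [HJFrac.hjVal, cont, hjVal_eq t (fun x hx => h x (List.mem_cons_of_mem _ hx)) ht,
        inv_div]
      push_cast
      field_simp

/-- the tail `[b (i+1), ..., b l]` -/
def tailList (l : ℕ) (b : ℕ → ℤ) (i : ℕ) : List ℤ := (List.range' (i + 1) (l - i)).map b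

theorem tailList_cons (l : ℕ) (b : ℕ → ℤ) {i : ℕ} (hi : i < l) :
    tailList l b i = b (i + 1) :: tailList l b (i + 1) := by
  rw [tailList, tailList, show l - i = (l - (i + 1)) + 1 by omega, List.range'_succ]
  rfl

/-- the invariant of a solution of the recursion -/
theorem invariant (l : ℕ) (b : ℕ → ℤ) (x : ℕ → ℤ)
    (hsys : ∀ i, 1 ≤ i → i ≤ l → b i * x i = x (i - 1) + x (i + 1)) :
    ∀ j i, i + j = l → x (i + 1) * (cont (tailList l b i)).1 - x i * (cont (tailList l b i)).2 = x (l + 1) := by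
  intro j
  induction j with
  | zero => intro i hi; subst hi; simp [tailList, cont]
  | succ j ih =>
    intro i hi
    rw [tailList_cons l b (by omega : i < l)]
    simp only [cont]
    have h1 := hsys (i + 1) (by omega) (by omega)
    simp only [Nat.add_sub_cancel] at h1
    have h2 := ih (i + 1) (by omega)
    linear_combination h2 + (cont (tailList l b (i + 1))).1 * h1

/-- the numerator and denominator are `n` and `r` -/
theorem cont_eq (l : ℕ) (hl : 1 ≤ l) (b : ℕ → ℤ) (hb : ∀ i, 1 ≤ i → i ≤ l → 2 ≤ b i)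
    (n r : ℕ) (hr : 0 < r) (hcop : Nat.Coprime r n)
    (hhj : (n : ℚ) / r = HJFrac.hjVal ((List.range l).map fun i => b (i + 1))) :
    (cont (tailList l b 0)).1 = n ∧ (cont (tailList l b 0)).2 = r := by
  have hL : (List.range l).map (fun i => b (i + 1)) = tailList l b 0 := by
    rw [tailList, Nat.sub_zero, List.range'_eq_map_range, List.map_map]
    exact List.map_congr_left fun i _ => by simp [add_comm]
  have hmem : ∀ x ∈ tailList l b 0, 2 ≤ x := by
    intro x hx
    rw [← hL, List.mem_map] at hx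
    obtain ⟨i, hi, rfl⟩ := hx
    exact hb _ (by omega) (by simp at hi; omega)
  have hne : tailList l b 0 ≠ [] := by rw [tailList_cons l b (by omega : 0 < l)]; simp
  obtain ⟨h1, h2⟩ := cont_bounds _ hmem
  rw [hL, hjVal_eq _ hmem hne] at hhj
  set N := (cont (tailList l b 0)).1
  set D := (cont (tailList l b 0)).2
  have hD : D ≠ 0 := by
    have e : D = (cont (tailList l b 1)).1 := by
      show (cont (tailList l b 0)).2 = _
      rw [tailList_cons l b (by omega : 0 < l)]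
      rfl
    have := cont_bounds (tailList l b 1) fun x hx => hmem x (by
      rw [tailList_cons l b (by omega : 0 < l)]; exact List.mem_cons_of_mem _ hx)
    omega
  have key : (n : ℤ) * D = N * r := by
    have hr' : (r : ℚ) ≠ 0 := by positivity
    have hD' : (D : ℚ) ≠ 0 := by exact_mod_cast hD
    rw [div_eq_div_iff hr' hD'] at hhj
    exact_mod_cast hhj
  have hc : IsCoprime (r : ℤ) n := Int.isCoprime_iff_nat_coprime.2 (by simpa using hcop)
  have e1 : (r : ℤ) ∣ D := hc.dvd_of_dvd_mul_left ⟨N, by linear_combination key⟩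
  have e2 : D ∣ (r : ℤ) := (cont_coprime (tailList l b 0)).symm.dvd_of_dvd_mul_left ⟨n, by linear_combination -key⟩
  have eD : D = r := Int.dvd_antisymm h1 (Int.natCast_nonneg r) e2 e1
  refine ⟨?_, eD⟩
  rw [eD] at key
  exact (mul_right_cancel₀ (by omega : (r : ℤ) ≠ 0) key).symm

theorem sum_inv_eq (l : ℕ) (hl : 1 ≤ l) (b : ℕ → ℤ) (hb : ∀ i, 1 ≤ i → i ≤ l → 2 ≤ b i)
    (n r : ℕ) (hr : 0 < r) (hcop : Nat.Coprime r n)
    (hhj : (n : ℚ) / r = HJFrac.hjVal ((List.range l).map fun i => b (i + 1)))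
    (m₁ m₂ : ℕ) (hm₁ : 0 < m₁) (hm₂ : 0 < m₂)
    (μ : ℕ → ℤ) (hμ0 : μ 0 = m₂) (hμl : μ (l + 1) = m₁) (hμpos : ∀ i, i ≤ l + 1 → 0 < μ i)
    (hsys : ∀ i, 1 ≤ i → i ≤ l → b i * μ i = μ (i - 1) + μ (i + 1)) :
    (n : ℚ) / ((m₁ : ℚ) * m₂) = ∑ i ∈ Finset.range (l + 1), 1 / ((μ i : ℚ) * (μ (i + 1) : ℚ)) := by
  obtain ⟨eN, eD⟩ := cont_eq l hl b hb n r hr hcop hhj
  let c : ℕ → ℤ := fun i => (Nat.rec (motive := fun _ => ℤ × ℤ) ((0 : ℤ), (1 : ℤ)) (fun k p => (p.2, b (k + 1) * p.2 - p.1)) i).1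
  have hc : ∀ i, 1 ≤ i → i ≤ l → b i * c i = c (i - 1) + c (i + 1) := by
    intro i hi _
    obtain ⟨k, rfl⟩ : ∃ k, i = k + 1 := ⟨i - 1, by omega⟩
    simp only [c, Nat.add_sub_cancel]
    ring
  have hcn : c (l + 1) = n := by
    rw [← invariant l b c hc l 0 (by simp), eN]
    simp [c]
  have W : ∀ i, i ≤ l → μ i * c (i + 1) - μ (i + 1) * c i = (m₂ : ℤ) := by
    intro i
    induction i with
    | zero => intro _; simp [c, hμ0]
    | succ i ih =>
      intro hi
      have h1 := hc (i + 1) (by omega) hi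
      have h2 := hsys (i + 1) (by omega) hi
      simp only [Nat.add_sub_cancel] at h1 h2
      linear_combination ih (by omega) - μ (i + 1) * h1 + c (i + 1) * h2
  have tel : ∀ i ∈ Finset.range (l + 1), 1 / ((μ i : ℚ) * (μ (i + 1) : ℚ)) =
      (c (i + 1) : ℚ) / μ (i + 1) / m₂ - (c i : ℚ) / μ i / m₂ := by
    intro i hi
    have hi' := Finset.mem_range.1 hi
    have a1 : (μ i : ℚ) ≠ 0 := by exact_mod_cast (hμpos i (by omega)).ne'
    have a2 : (μ (i + 1) : ℚ) ≠ 0 := by exact_mod_cast (hμpos (i + 1) (by omega)).ne'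
    have a3 : (m₂ : ℚ) ≠ 0 := by positivity
    have w : (μ i : ℚ) * c (i + 1) - μ (i + 1) * c i = m₂ := by exact_mod_cast W i (by omega)
    field_simp
    linear_combination -w
  rw [Finset.sum_congr rfl tel, Finset.sum_range_sub (fun i => (c i : ℚ) / μ i / m₂), hcn, hμl]
  simp [c]
  rw [div_div]

theorem gcd_dvd (l : ℕ) (hl : 1 ≤ l) (b : ℕ → ℤ) (hb : ∀ i, 1 ≤ i → i ≤ l → 2 ≤ b i)
    (n r : ℕ) (hr : 0 < r) (hcop : Nat.Coprime r n)
    (hhj : (n : ℚ) / r = HJFrac.hjVal ((List.range l).map fun i => b (i + 1)))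
    (m₁ m₂ : ℕ) (h₁ : Nat.Coprime m₁ n)
    (μ : ℕ → ℤ) (hμ0 : μ 0 = m₂) (hμl : μ (l + 1) = m₁)
    (hsys : ∀ i, 1 ≤ i → i ≤ l → b i * μ i = μ (i - 1) + μ (i + 1)) :
    ∀ i, i ≤ l + 1 → ((Nat.gcd m₁ m₂ : ℕ) : ℤ) ∣ μ i := by
  obtain ⟨eN, eD⟩ := cont_eq l hl b hb n r hr hcop hhj
  set d : ℤ := ((Nat.gcd m₁ m₂ : ℕ) : ℤ)
  have d1 : d ∣ (m₁ : ℤ) := Int.natCast_dvd_natCast.2 (Nat.gcd_dvd_left _ _)
  have d2 : d ∣ (m₂ : ℤ) := Int.natCast_dvd_natCast.2 (Nat.gcd_dvd_right _ _)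
  have key := invariant l b μ hsys l 0 (by simp)
  rw [eN, eD, hμ0, hμl] at key
  have hdn : IsCoprime d (n : ℤ) :=
    IsCoprime.of_isCoprime_of_dvd_left (Int.isCoprime_iff_nat_coprime.2 (by simpa using h₁)) d1
  have h01 : d ∣ μ 1 := hdn.dvd_of_dvd_mul_right (by
    rw [show μ 1 * (n : ℤ) = m₁ + m₂ * r by linear_combination key]
    exact dvd_add d1 (dvd_mul_of_dvd_left d2 _))
  have : ∀ i, i ≤ l → d ∣ μ i ∧ d ∣ μ (i + 1) := by
    intro i
    induction i with
    | zero => exact fun _ => ⟨hμ0 ▸ d2, h01⟩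
    | succ i ih =>
      intro hi
      obtain ⟨a, a'⟩ := ih (by omega)
      refine ⟨a', ?_⟩
      have h2 := hsys (i + 1) (by omega) hi
      simp only [Nat.add_sub_cancel] at h2
      rw [show μ (i + 1 + 1) = b (i + 1) * μ (i + 1) - μ i by linear_combination -h2]
      exact dvd_sub (dvd_mul_of_dvd_right a' _) a
  intro i hi
  rcases Nat.eq_or_lt_of_le hi with rfl | h
  · exact hμl ▸ d1
  · exact (this i (by omega)).1

end Groth.Agent.Small96
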