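import Groth.Prelude.Def_AlgGrp
import Mathlib

/-! Kernels of multiplication on the layers of a Barsotti–Tate group. -/

set_option autoImplicit false

universe u

open CategoryTheory CategoryTheory.Limits MonoidalCategory CartesianMonoidalCategory MonObj AlgebraicGeometry

namespace Groth.Agent.Small96

variable {S : Scheme.{u}}

theorem isKernel_of_points {N G Q : Over S} [GrpObj Q] (i : N ⟶ G) (q : G ⟶ Q)
    (h1 : i ≫ q = 1) (h2 : ∀ (Z : Over S) (x : Z ⟶ G), x ≫ q = 1 → ∃! y : Z ⟶ N, y ≫ i = x) :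
    AlgGrp.IsKernel i q := by
  have hs : ∀ s : PullbackCone q η[Q], s.fst ≫ q = 1 := fun s => by
    rw [s.condition, Subsingleton.elim s.snd (toUnit s.pt)]; rfl
  exact IsPullback.of_isLimit' ⟨h1⟩ (PullbackCone.IsLimit.mk _ (fun s => (h2 s.pt s.fst (hs s)).choose)
    (fun s => (h2 s.pt s.fst (hs s)).choose_spec.1) (fun s => Subsingleton.elim _ _)
    (fun s m hm _ => (h2 s.pt s.fst (hs s)).choose_spec.2 m hm))

theorem kernel_points {N G Q : Over S} [GrpObj Q] {i : N ⟶ G} {q : G ⟶ Q} (H : AlgGrp.IsKernel i q)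
    {Z : Over S} (x : Z ⟶ G) (hx : x ≫ q = 1) : ∃ y : Z ⟶ N, y ≫ i = x :=
  ⟨H.lift x (toUnit Z) hx, H.lift_fst _ _ _⟩

theorem kernel_comp {N G Q : Over S} [GrpObj Q] {i : N ⟶ G} {q : G ⟶ Q} (H : AlgGrp.IsKernel i q) :
    i ≫ q = 1 := H.w

theorem kernel_mono {N G Q : Over S} [GrpObj Q] {i : N ⟶ G} {q : G ⟶ Q} (H : AlgGrp.IsKernel i q)
    {Z : Over S} {y y' : Z ⟶ N} (h : y ≫ i = y' ≫ i) : y = y' :=
  H.hom_ext h (Subsingleton.elim _ _)

/-- If every layer is the kernel of `ℓ^ν` in the next one, the first layer is the kernel of `ℓ` in all of them. -/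
theorem isKernel_first (ℓ : ℕ) (G : ℕ → Over S) [∀ ν, GrpObj (G ν)] (incl : ∀ ν, G ν ⟶ G (ν + 1))
    [∀ ν, IsMonHom (incl ν)] (hk : ∀ ν, AlgGrp.IsKernel (incl ν) ((𝟙 (G (ν + 1))) ^ (ℓ ^ ν)))
    (i : (t : ℕ) → (G 1 ⟶ G (t + 1))) (hi0 : i 0 = 𝟙 (G 1))
    (hi : ∀ t : ℕ, i (t + 1) = i t ≫ incl (t + 1)) (t : ℕ) :
    AlgGrp.IsKernel (i t) ((𝟙 (G (t + 1))) ^ ℓ) := by
  have hpow : ∀ {Z : Over S} (ν n : ℕ) (x : Z ⟶ G ν), x ≫ (𝟙 (G ν)) ^ n = x ^ n := fun ν n x => by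
    rw [MonObj.comp_pow, Category.comp_id]
  induction t with
  | zero =>
    rw [hi0]
    refine isKernel_of_points _ _ ?_ fun Z x _ => ⟨x, Category.comp_id x, fun y hy => (Category.comp_id y).symm.trans hy⟩
    rw [hpow]
    refine kernel_mono (hk 1) ?_
    have h := kernel_comp (hk 1)
    rw [hpow, pow_one] at h
    rw [MonObj.pow_comp, Category.id_comp, h, MonObj.one_comp]
  | succ t ih =>
    rw [hi t]
    refine isKernel_of_points _ _ ?_ fun Z x hx => ?_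
    · rw [hpow, ← MonObj.pow_comp, ← hpow, kernel_comp ih, MonObj.one_comp]
    · rw [hpow] at hx
      obtain ⟨y, rfl⟩ := kernel_points (hk (t + 1)) x (by
        rw [hpow, pow_succ', pow_mul, hx, one_pow])
      have hy : y ^ ℓ = 1 := kernel_mono (hk (t + 1)) (by rw [MonObj.pow_comp, hx, MonObj.one_comp])
      obtain ⟨z, rfl⟩ := kernel_points ih y (by rw [hpow, hy])
      exact ⟨z, by simp, fun w hw => kernel_mono ih (kernel_mono (hk (t + 1)) (by simpa using hw))⟩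

end Groth.Agent.Small96
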